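import Cfsg.Agent.SporRec.Co3DC.Bound
import Cfsg.Agent.SporRec.Co3.Ident
set_option linter.all false

/-!
# The centraliser of a central involution of the third Conway group

`C_{Co₃}(Z) = φ₀(M)`, `M` the model of `2·Sp₆(2)`: the seven double cosets `M g M` of `Co₃` (`Co3DC/Bound`) and the six
checks `g Z ≠ Z g`.
-/

set_option autoImplicit false
set_option Elab.async false

namespace Cfsg.Agent.KFacts.Co3.Cent

open Cfsg Cfsg.Agent.SporRec.TwoSp6.Model Cfsg.Agent.SporRec.Co3DC Cfsg.Agent.SporRec.Co3DC.Bound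
  Cfsg.Agent.SporRec.Co3DC.Final Cfsg.Agent.SporRec.Co3DC.Count Cfsg.Agent.SporRec.Co3.Chain
  Cfsg.Agent.SporRec.Co3.ChainData Cfsg.Agent.SporRec.Co3.Ident Cfsg.Agent.SporRec.LeechChain
  Cfsg.Agent.SporRec.LeechMod3 Cfsg.Agent.LeechMat.Core Cfsg.Agent.Lib.PackMat

/-- `⟨φ M, w⟩` is the union of the seven double cosets -/
theorem sub_U {G : Type*} [Group G] (φ : M →* G) (w : G) (R : WRel φ w 1 1) :
    ((Subgroup.closure (Set.range φ ∪ {w}) : Subgroup G) : Set G) ⊆ U φ (gg φ w) := by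
  have h1 := fin_sound R fin1
  have h2 := fin_sound R fin2
  have h3 := fin_sound R fin3
  have h4 := fin_sound R fin4
  have h5 := fin_sound R fin5
  have h6 := fin_sound R fin6
  have hcov : ∀ i < 7, 0 < i → ∀ p : M, w * φ p * gg φ w i ∈ U φ (gg φ w) := by
    intro i hi hpos p
    interval_cases i
    · exact cover R h1.1 p
    · exact cover R h2.1 p
    · exact cover R h3.1 p
    · exact cover R h4.1 p
    · exact cover R h5.1 p
    · exact cover R h6.1 p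
  exact closure_le_U rfl rfl R.w3 hcov

theorem closure_phi0 : Subgroup.closure (Set.range phi0 ∪ {W0}) = ⊤ := by
  rw [eq_top_iff, ← closure_top, Subgroup.closure_le]
  rintro x (⟨i, rfl⟩ | hx)
  · rw [← phi0_gen]
    exact Subgroup.subset_closure (Or.inl ⟨_, rfl⟩)
  · exact Subgroup.subset_closure (Or.inr hx)

theorem exists_rep (x : G3) : ∃ k < 7, ∃ a b : M, x = phi0 a * gg phi0 W0 k * phi0 b := by
  have h : x ∈ (Subgroup.closure (Set.range phi0 ∪ {W0}) : Subgroup G3) := by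
    rw [closure_phi0]; exact Subgroup.mem_top x
  exact sub_U phi0 W0 wrel0 h

/-- words with different values -/
theorem mw_ne {V : ℕ} {u v : List ℕ}
    (hrow : (Nat.blt V (2 ^ (15 * 24)) && allBelow (fun i => Nat.blt (dg 15 V i) 3) 24) = true)
    (h : (wok gs0 (u.flatMap exl) && wok gs0 (v.flatMap exl) &&
      !(Nat.beq (run cfg (wmats gs0 (u.flatMap exl)) V) (run cfg (wmats gs0 (v.flatMap exl)) V))) = true) :
    mw A Z W0 u ≠ mw A Z W0 v := by
  rw [Bool.and_eq_true, Bool.and_eq_true] at h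
  obtain ⟨⟨h1, h2⟩, h3⟩ := h
  intro e
  have e1 := congrArg (fun x : G3 => (x : Co0)) e
  simp only [coe_mw] at e1
  obtain ⟨k1, k2⟩ := word_rho (gs := gs0) (g := el) (fun k hk => (el_spec k hk).2) h1
  obtain ⟨l1, l2⟩ := word_rho (gs := gs0) (g := el) (fun k hk => (el_spec k hk).2) h2
  have hV := okR_of hrow
  obtain ⟨m1, m2⟩ := run_rv k1 hV
  obtain ⟨n1, n2⟩ := run_rv l1 hV
  rw [← k2, e1, l2, ← n2] at m2
  rw [rv_inj m1 n1 m2, Nat.beq_refl] at h3
  exact absurd h3 (by decide)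

/-- words of the representatives -/
def gW : ℕ → List ℕ
  | 0 => []
  | 1 => [8]
  | 2 => [8, 3, 8]
  | 3 => [8, 3, 5, 8]
  | 4 => [8, 0, 3, 5, 8]
  | 5 => [8, 3, 5, 8, 3, 8]
  | _ => [8, 0, 3, 5, 4, 8, 0, 3, 5, 8]

theorem phi0_W {u : List ℕ} (h : (u.all fun k => Nat.ble k 7) = true) : phi0 (W u) = mw A Z W0 u :=
  (phi0_wv _).trans (wv_A h)

theorem gg_eq : ∀ k < 7, gg phi0 W0 k = mw A Z W0 (gW k) := by
  intro k hk
  have e8 : W0 = mw A Z W0 [8] := (mw_w A Z W0).symm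
  have e3 : phi0 (W [3]) = mw A Z W0 [3] := phi0_W (by decide)
  have e35 : phi0 (W [3, 5]) = mw A Z W0 [3, 5] := phi0_W (by decide)
  have e035 : phi0 (W [0, 3, 5]) = mw A Z W0 [0, 3, 5] := phi0_W (by decide)
  have e0354 : phi0 (W [0, 3, 5, 4]) = mw A Z W0 [0, 3, 5, 4] := phi0_W (by decide)
  interval_cases k
  · show (1 : G3) = mw A Z W0 []
    exact (mw_nil _ _ _).symm
  · exact e8
  · show W0 * phi0 (W [3]) * W0 = mw A Z W0 ([8] ++ ([3] ++ [8]))
    rw [e3, mw_append, mw_append, mw_w, mul_assoc]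
  · show W0 * phi0 (W [3, 5]) * W0 = mw A Z W0 ([8] ++ ([3, 5] ++ [8]))
    rw [e35, mw_append, mw_append, mw_w, mul_assoc]
  · show W0 * phi0 (W [0, 3, 5]) * W0 = mw A Z W0 ([8] ++ ([0, 3, 5] ++ [8]))
    rw [e035, mw_append, mw_append, mw_w, mul_assoc]
  · show W0 * phi0 (W [3, 5]) * (W0 * phi0 (W [3]) * W0) = mw A Z W0 ([8] ++ ([3, 5] ++ ([8] ++ ([3] ++ [8]))))
    rw [e35, e3, mw_append, mw_append, mw_append, mw_append, mw_w]
    simp only [mul_assoc]
  · show W0 * phi0 (W [0, 3, 5, 4]) * (W0 * phi0 (W [0, 3, 5]) * W0) =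
      mw A Z W0 ([8] ++ ([0, 3, 5, 4] ++ ([8] ++ ([0, 3, 5] ++ [8]))))
    rw [e0354, e035, mw_append, mw_append, mw_append, mw_append, mw_w]
    simp only [mul_assoc]

theorem ne_check : ∀ k : Fin 6, (wok gs0 ((gW (k + 1) ++ [7]).flatMap exl) &&
    wok gs0 (([7] ++ gW (k + 1)).flatMap exl) &&
      !(Nat.beq (run cfg (wmats gs0 ((gW (k + 1) ++ [7]).flatMap exl)) V1)
        (run cfg (wmats gs0 (([7] ++ gW (k + 1)).flatMap exl)) V1))) = true := by
  decide +kernel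

/-- **`C(Z) = φ₀(M)`** -/
theorem exists_of_comm {x : G3} (hx : x * Z = Z * x) : ∃ m : M, x = phi0 m := by
  obtain ⟨k, hk, a, b, e⟩ := exists_rep x
  rcases Nat.eq_zero_or_pos k with rfl | hpos
  · refine ⟨a * b, ?_⟩
    rw [e, map_mul]
    show phi0 a * 1 * phi0 b = _
    rw [mul_one]
  · exfalso
    have hz : ∀ m : M, phi0 m * Z = Z * phi0 m := by
      intro m
      rw [← phi0_z, ← map_mul, ← map_mul, rels.z_comm]
    have h1 : gg phi0 W0 k * Z = Z * gg phi0 W0 k := by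
      have e1 : gg phi0 W0 k = (phi0 a)⁻¹ * x * (phi0 b)⁻¹ := by rw [e]; group
      have ha : (phi0 a)⁻¹ * Z = Z * (phi0 a)⁻¹ := by rw [← map_inv]; exact hz _
      have hb : (phi0 b)⁻¹ * Z = Z * (phi0 b)⁻¹ := by rw [← map_inv]; exact hz _
      rw [e1, mul_assoc, hb, ← mul_assoc, mul_assoc (phi0 a)⁻¹, hx, ← mul_assoc, ha]
      simp only [mul_assoc]
    rw [gg_eq k hk] at h1
    have h2 : mw A Z W0 (gW k ++ [7]) = mw A Z W0 ([7] ++ gW k) := by
      rw [mw_append, mw_append, mw_z]; exact h1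
    obtain ⟨j, rfl⟩ : ∃ j, k = j + 1 := ⟨k - 1, by omega⟩
    exact mw_ne row1 (ne_check ⟨j, by omega⟩) h2

end Cfsg.Agent.KFacts.Co3.Cent
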